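import Mathlib
import Groth.Agent.FlatCrit.Basic
import Groth.Agent.CAlgH.TorBridge

/-!
Consequences of `Tor₁` vanishing: flatness modulo nilpotent ideals, bases, Tor of flat and finite modules.
-/

namespace Groth.Agent.CAlgFlatTor

universe u

open scoped TensorProduct
open CategoryTheory MonoidalCategory Groth.Agent.FlatCrit Groth.Agent.CAlgH.TorBridge

variable {R : Type u} [CommRing R]

theorem flat_baseChange_of_injective (A : Type u) [CommRing A] [Algebra R A] (M : Type u) [AddCommGroup M]
    [Module R M]
    (h : ∀ J : Ideal A, Function.Injective ((J.subtype.restrictScalars R).lTensor M)) :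
    Module.Flat A (A ⊗[R] M) := by
  rw [Module.Flat.iff_rTensor_injective']
  intro J
  let e₁ := TensorProduct.AlgebraTensorModule.cancelBaseChange R A A J M
  let e₂ := TensorProduct.AlgebraTensorModule.cancelBaseChange R A A A M
  have hinj := (LinearMap.lTensor_inj_iff_rTensor_inj _ _).mp (h J)
  have hsq : ∀ z, (J.subtype.restrictScalars R).rTensor M (e₁ z) = e₂ (J.subtype.rTensor (A ⊗[R] M) z) := by
    intro z
    induction z using TensorProduct.induction_on with
    | zero => simp
    | add a c ha hc => simp only [map_add, ha, hc]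
    | tmul x t =>
      induction t using TensorProduct.induction_on with
      | zero => simp
      | add a c ha hc => simp only [TensorProduct.tmul_add, map_add, ha, hc]
      | tmul a m => simp [e₁, e₂]
  intro x y hxy
  apply e₁.injective
  apply hinj
  rw [hsq, hsq, hxy]

theorem flat_baseChange_of_torZero (A : Type u) [CommRing A] [Algebra R A] (M : Type u) [AddCommGroup M]
    [Module R M] (h : ∀ J : Ideal A, TorZero R M (A ⧸ J)) : Module.Flat A (A ⊗[R] M) :=
  flat_baseChange_of_injective A M fun J => (h J).lTensor_injective (g := (Submodule.mkQ J).restrictScalars R)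
    Subtype.val_injective (LinearMap.exact_subtype_mkQ J) (Submodule.mkQ_surjective J)

/-- `M/IM` flat over `R/I` and `Tor₁(R/I, M) = 0` imply `M/IⁿM` flat over `R/Iⁿ`. -/
theorem flat_mod_pow {I : Ideal R} {M : Type u} [AddCommGroup M] [Module R M]
    [Module.Flat (R ⧸ I) ((R ⧸ I) ⊗[R] M)] (htor : Function.Injective (I.subtype.lTensor M)) (n : ℕ) :
    Module.Flat (R ⧸ I ^ n) ((R ⧸ I ^ n) ⊗[R] M) := by
  refine flat_baseChange_of_torZero _ M fun J => torZero_of_pow_smul_eq_bot htor n ?_
  refine (Submodule.eq_bot_iff _).2 fun x hx => ?_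
  refine Submodule.smul_induction_on hx (fun r hr q _ => ?_) (fun a b ha hb => by rw [ha, hb, add_zero])
  rw [← algebraMap_smul (R ⧸ I ^ n) r q, show algebraMap R (R ⧸ I ^ n) r = 0 from Ideal.Quotient.eq_zero_iff_mem.2 hr,
    zero_smul]

/-- The key step: flatness modulo `I` and over `R'` gives flatness modulo the preimage of `I²R'`. -/
theorem flat_mod_comap_sq (R' : Type u) [CommRing R'] [Algebra R R'] (I : Ideal R) (M : Type u)
    [AddCommGroup M] [Module R M] [Module.Flat (R ⧸ I) ((R ⧸ I) ⊗[R] M)]
    [Module.Flat R' (R' ⊗[R] M)] :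
    Module.Flat (R ⧸ ((I ^ 2).map (algebraMap R R')).comap (algebraMap R R'))
      ((R ⧸ ((I ^ 2).map (algebraMap R R')).comap (algebraMap R R')) ⊗[R] M) := by
  set I₂ := ((I ^ 2).map (algebraMap R R')).comap (algebraMap R R') with hI₂
  let A := R ⧸ I₂
  let B := R' ⧸ (I ^ 2).map (algebraMap R R')
  let N := A ⊗[R] M
  let K : Ideal A := I.map (algebraMap R A)
  have hK2 : ∀ r ∈ I, ∀ x ∈ K, r • x = 0 := by
    intro r hr x hx
    obtain ⟨y, hy, rfl⟩ := (Ideal.mem_map_iff_of_surjective (algebraMap R A) Ideal.Quotient.mk_surjective).1 hx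
    rw [Algebra.smul_def, ← map_mul]
    refine Ideal.Quotient.eq_zero_iff_mem.2 (Ideal.mem_comap.2 (Ideal.mem_map_of_mem _ ?_))
    rw [pow_two]
    exact Ideal.mul_mem_mul hr hy
  -- `K ⊗ M → A ⊗ M` is injective
  have hBflat : Module.Flat B (B ⊗[R] M) :=
    Module.Flat.of_linearEquiv (TensorProduct.AlgebraTensorModule.cancelBaseChange R R' B B M).symm
  let ρ : A →ₐ[R] B := Ideal.quotientMapₐ _ (Algebra.ofId R R') le_rfl
  have hρ : Function.Injective ρ := Ideal.quotientMap_injective
  have hinj1 : Function.Injective ((K.subtype.restrictScalars R).lTensor M) := by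
    let L : Ideal B := I.map (algebraMap R B)
    have hKL : ∀ x : K, ρ x ∈ L := fun x => by
      have h : K.map ρ.toRingHom = L := (Ideal.map_map _ _).trans (congrArg (fun f => Ideal.map f I) ρ.comp_algebraMap)
      exact h ▸ Ideal.mem_map_of_mem _ x.2
    let φ : K →ₗ[R] L :=
      LinearMap.codRestrict (L.restrictScalars R) (ρ.toLinearMap ∘ₗ K.subtype.restrictScalars R) hKL
    have hφ : Function.Injective φ := fun x y h => Subtype.ext (hρ (congrArg Subtype.val h))
    have hL : I • (⊤ : Submodule R L) = ⊥ := by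
      refine (Submodule.eq_bot_iff _).2 fun x hx => ?_
      refine Submodule.smul_induction_on hx (fun r hr q _ => Subtype.ext ?_) (fun a b ha hb => by rw [ha, hb, add_zero])
      show r • (q : B) = 0
      have hq := q.2
      revert hq
      generalize (q : B) = z
      intro hz
      induction hz using Submodule.span_induction with
      | mem z hz =>
        obtain ⟨y, hy, rfl⟩ := hz
        rw [Algebra.smul_def, ← map_mul, IsScalarTower.algebraMap_apply R R' B]
        refine Ideal.Quotient.eq_zero_iff_mem.2 (Ideal.mem_map_of_mem _ ?_)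
        rw [pow_two]
        exact Ideal.mul_mem_mul hr hy
      | zero => rw [smul_zero]
      | add a b _ _ ha hb => rw [smul_add, ha, hb, add_zero]
      | smul c a _ ha => rw [smul_comm, ha, smul_zero]
    have htK : Module.IsTorsionBySet R K I := fun x a => Subtype.ext (hK2 a a.2 x x.2)
    have htL : Module.IsTorsionBySet R L I := fun x a => by
      have : (a : R) • x ∈ I • (⊤ : Submodule R L) := Submodule.smul_mem_smul a.2 trivial
      simpa [hL] using this
    letI := htK.module
    letI := htL.module
    haveI : IsScalarTower R (R ⧸ I) K := htK.isScalarTower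
    haveI : IsScalarTower R (R ⧸ I) L := htL.isScalarTower
    let φ' : K →ₗ[R ⧸ I] L :=
      { toFun := φ, map_add' := map_add φ
        map_smul' := fun c x => by
          obtain ⟨r, rfl⟩ := Ideal.Quotient.mk_surjective c
          exact φ.map_smul r x }
    have h1 : Function.Injective (φ.lTensor M) := lTensor_injective_of_flat_baseChange (R ⧸ I) φ' hφ
    have h2 : Function.Injective ((L.subtype.restrictScalars R).lTensor M) :=
      lTensor_injective_of_flat_baseChange B L.subtype Subtype.val_injective
    have h3 := h2.comp h1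
    rw [← LinearMap.coe_comp, ← LinearMap.lTensor_comp,
      show (L.subtype.restrictScalars R) ∘ₗ φ = ρ.toLinearMap ∘ₗ K.subtype.restrictScalars R from rfl,
      LinearMap.lTensor_comp, LinearMap.coe_comp] at h3
    exact h3.of_comp
  have hKA : Function.Injective (K.subtype.lTensor N) := by
    rw [LinearMap.lTensor_inj_iff_rTensor_inj]
    let e₁ := TensorProduct.AlgebraTensorModule.cancelBaseChange R A A K M
    let e₂ := TensorProduct.AlgebraTensorModule.cancelBaseChange R A A A M
    have hinj := (LinearMap.lTensor_inj_iff_rTensor_inj _ _).mp hinj1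
    have hsq : ∀ z, (K.subtype.restrictScalars R).rTensor M (e₁ z) = e₂ (K.subtype.rTensor N z) := by
      intro z
      induction z using TensorProduct.induction_on with
      | zero => simp
      | add a c ha hc => simp only [map_add, ha, hc]
      | tmul x t =>
        induction t using TensorProduct.induction_on with
        | zero => simp
        | add a c ha hc => simp only [TensorProduct.tmul_add, map_add, ha, hc]
        | tmul a m => simp [e₁, e₂, N]
    intro x y hxy
    apply e₁.injective
    apply hinj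
    rw [hsq, hsq, hxy]
  have hle : I₂ ≤ I ⊔ I₂ := le_sup_right
  haveI : Module.Flat (A ⧸ K) ((A ⧸ K) ⊗[A] N) := by
    have hI : I ≤ RingHom.ker (algebraMap R (A ⧸ K)) := fun r hr => by
      rw [RingHom.mem_ker, IsScalarTower.algebraMap_apply R A (A ⧸ K)]
      exact Ideal.Quotient.eq_zero_iff_mem.2 (Ideal.mem_map_of_mem _ hr)
    letI : Algebra (R ⧸ I) (A ⧸ K) := (Ideal.Quotient.lift I (algebraMap R (A ⧸ K)) hI).toAlgebra
    haveI : IsScalarTower R (R ⧸ I) (A ⧸ K) := IsScalarTower.of_algebraMap_eq fun r => rfl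
    exact Module.Flat.of_linearEquiv
      ((TensorProduct.AlgebraTensorModule.cancelBaseChange R A (A ⧸ K) (A ⧸ K) M).trans
        (TensorProduct.AlgebraTensorModule.cancelBaseChange R (R ⧸ I) (A ⧸ K) (A ⧸ K) M).symm)
  refine flat_of_isNilpotent ⟨2, ?_⟩ hKA
  rw [Submodule.zero_eq_bot, eq_bot_iff, ← Ideal.map_pow]
  intro x hx
  obtain ⟨y, hy, rfl⟩ := (Ideal.mem_map_iff_of_surjective (algebraMap R A) Ideal.Quotient.mk_surjective).1 hx
  exact Ideal.Quotient.eq_zero_iff_mem.2 (Ideal.mem_comap.2 (Ideal.mem_map_of_mem _ hy))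

/-- Flatness from flatness modulo a nilpotent ideal and after an injective base change. -/
theorem flat_of_injective_baseChange (R' : Type u) [CommRing R'] [Algebra R R']
    (hinj : Function.Injective (algebraMap R R')) {I : Ideal R} (hI : IsNilpotent I) (M : Type u)
    [AddCommGroup M] [Module R M] [Module.Flat (R ⧸ I) ((R ⧸ I) ⊗[R] M)]
    [Module.Flat R' (R' ⊗[R] M)] : Module.Flat R M := by
  have hind : ∀ k : ℕ, ∃ J : Ideal R, J ≤ ((I ^ (2 ^ k)).map (algebraMap R R')).comap (algebraMap R R') ∧
      Module.Flat (R ⧸ J) ((R ⧸ J) ⊗[R] M) := by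
    intro k
    induction k with
    | zero => exact ⟨I, by rw [pow_zero, pow_one]; exact Ideal.le_comap_map, inferInstance⟩
    | succ k ih =>
      obtain ⟨J, hJ, hflat⟩ := ih
      refine ⟨_, ?_, flat_mod_comap_sq R' J M⟩
      refine Ideal.comap_mono ?_
      rw [pow_succ 2 k, pow_mul, Ideal.map_pow, Ideal.map_pow _ (I ^ (2 ^ k))]
      exact Ideal.pow_right_mono (Ideal.map_le_iff_le_comap.2 hJ) 2
  obtain ⟨n, hn⟩ := hI
  obtain ⟨J, hJ, hflat⟩ := hind n
  have hbot : J = ⊥ := by
    refine le_bot_iff.1 (hJ.trans ?_)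
    rw [show I ^ (2 ^ n) = ⊥ from le_bot_iff.1
      ((Ideal.pow_le_pow_right Nat.lt_two_pow_self.le).trans hn.le), Ideal.map_bot]
    intro r hr
    exact hinj ((Ideal.mem_bot.1 (Ideal.mem_comap.1 hr)).trans (map_zero _).symm)
  subst hbot
  refine flat_of_isNilpotent (I := ⊥) ⟨1, by simp⟩ ?_
  haveI : Subsingleton (⊥ : Ideal R) := inferInstance
  exact fun x y _ => Subsingleton.elim x y

theorem span_eq_top_of_mod {I : Ideal R} (hI : IsNilpotent I) {M : Type u} [AddCommGroup M] [Module R M]
    {A : Type u} (x : A → M)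
    (hsp : Submodule.span (R ⧸ I) (Set.range fun a => (1 : R ⧸ I) ⊗ₜ[R] x a) = ⊤) :
    Submodule.span R (Set.range x) = ⊤ := by
  classical
  obtain ⟨n, hn⟩ := hI
  have h1 : ∀ m : M, m ∈ Submodule.span R (Set.range x) ⊔ I • (⊤ : Submodule R M) := by
    intro m
    have hm : (1 : R ⧸ I) ⊗ₜ[R] m ∈ Submodule.span (R ⧸ I) (Set.range fun a => (1 : R ⧸ I) ⊗ₜ[R] x a) := by
      rw [hsp]; trivial
    obtain ⟨c, hc⟩ := (Finsupp.mem_span_range_iff_exists_finsupp).1 hm
    choose r hr using fun a => Ideal.Quotient.mk_surjective (I := I) (c a)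
    have heq : (1 : R ⧸ I) ⊗ₜ[R] (m - ∑ a ∈ c.support, r a • x a) = 0 := by
      rw [TensorProduct.tmul_sub, TensorProduct.tmul_sum, ← hc, Finsupp.sum, sub_eq_zero]
      refine Finset.sum_congr rfl fun a _ => ?_
      rw [TensorProduct.tmul_smul, ← hr a, ← Ideal.Quotient.algebraMap_eq, algebraMap_smul]
    have h3 := congrArg (TensorProduct.quotTensorEquivQuotSMul M I) heq
    rw [map_zero, show (1 : R ⧸ I) = Ideal.Quotient.mk I 1 from rfl,
      TensorProduct.quotTensorEquivQuotSMul_mk_tmul, one_smul, Submodule.Quotient.mk_eq_zero] at h3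
    rw [← add_sub_cancel (∑ a ∈ c.support, r a • x a) m]
    exact add_mem (Submodule.mem_sup_left (Submodule.sum_mem _ fun a _ => Submodule.smul_mem _ _
      (Submodule.subset_span ⟨a, rfl⟩))) (Submodule.mem_sup_right h3)
  have hspan : ∀ k, ∀ m : M, m ∈ Submodule.span R (Set.range x) ⊔ I ^ k • (⊤ : Submodule R M) := by
    intro k
    induction k with
    | zero => intro m; rw [pow_zero, Ideal.one_eq_top, Submodule.top_smul]; exact Submodule.mem_sup_right trivial
    | succ k ih =>
      intro m
      obtain ⟨s, hs, t, ht, rfl⟩ := Submodule.mem_sup.1 (ih m)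
      refine add_mem (Submodule.mem_sup_left hs) ?_
      refine Submodule.smul_induction_on ht (fun a ha y _ => ?_) (fun a b ha hb => add_mem ha hb)
      obtain ⟨s', hs', t', ht', rfl⟩ := Submodule.mem_sup.1 (h1 y)
      rw [smul_add]
      refine add_mem (Submodule.mem_sup_left (Submodule.smul_mem _ a hs')) (Submodule.mem_sup_right ?_)
      rw [pow_succ, mul_smul]
      exact Submodule.smul_mem_smul ha ht'
  refine eq_top_iff.2 fun m _ => ?_
  have := hspan n m
  rwa [hn, Submodule.zero_eq_bot, Submodule.bot_smul, sup_bot_eq] at this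

theorem subsingleton_of_tmul_eq_zero {I : Ideal R} (hI : IsNilpotent I) {K : Type u} [AddCommGroup K]
    [Module R K] (h : ∀ k : K, (1 : R ⧸ I) ⊗ₜ[R] k = 0) (k : K) : k = 0 := by
  obtain ⟨n, hn⟩ := hI
  have hK2 : ∀ k : K, k ∈ I • (⊤ : Submodule R K) := fun k => by
    have h3 := congrArg (TensorProduct.quotTensorEquivQuotSMul K I) (h k)
    rwa [map_zero, show (1 : R ⧸ I) = Ideal.Quotient.mk I 1 from rfl,
      TensorProduct.quotTensorEquivQuotSMul_mk_tmul, one_smul, Submodule.Quotient.mk_eq_zero] at h3
  have hK3 : ∀ j, (⊤ : Submodule R K) ≤ I ^ j • ⊤ := by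
    intro j
    induction j with
    | zero => rw [pow_zero, Ideal.one_eq_top, Submodule.top_smul]
    | succ j ih =>
      refine ih.trans (le_trans (Submodule.smul_mono le_rfl fun k _ => hK2 k) ?_)
      rw [← mul_smul, ← pow_succ]
  have := hK3 n (Submodule.mem_top (x := k))
  rwa [hn, Submodule.zero_eq_bot, Submodule.bot_smul, Submodule.mem_bot] at this

theorem linearCombination_finsuppScalarRight (B : Type u) [CommRing B] [Algebra R B] {M : Type u}
    [AddCommGroup M] [Module R M] {A : Type u} [DecidableEq A] (x : A → M) (f : A →₀ R) :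
    Finsupp.linearCombination B (fun a => (1 : B) ⊗ₜ[R] x a)
      (TensorProduct.finsuppScalarRight R B B A ((1 : B) ⊗ₜ[R] f)) = (1 : B) ⊗ₜ[R] Finsupp.linearCombination R x f := by
  induction f using Finsupp.induction_linear with
  | zero => simp
  | add a b ha hb => simp only [TensorProduct.tmul_add, map_add, ha, hb]
  | single a r =>
    simp [TensorProduct.finsuppScalarRight_apply_tmul, Algebra.smul_def, TensorProduct.smul_tmul',
      TensorProduct.smul_tmul]

theorem eq_zero_of_exact {I : Ideal R} (hI : IsNilpotent I) {M : Type u} [AddCommGroup M] [Module R M]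
    (htor : Function.Injective (I.subtype.lTensor M)) {A : Type u} (x : A → M)
    (hli : LinearIndependent (R ⧸ I) (fun a => (1 : R ⧸ I) ⊗ₜ[R] x a)) {K : Type u} [AddCommGroup K] [Module R K]
    (f : K →ₗ[R] (A →₀ R)) (hf : Function.Injective f) (hfg : Function.Exact f (Finsupp.linearCombination R x))
    (hg : Function.Surjective (Finsupp.linearCombination R x)) (k : K) : k = 0 := by
  classical
  have h2 := (torZero_symm ((torZero_quotient_iff I).2 htor)).lTensor_injective hf hfg hg
  refine subsingleton_of_tmul_eq_zero hI (fun k => ?_) k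
  apply h2
  rw [map_zero, LinearMap.lTensor_tmul]
  apply (TensorProduct.finsuppScalarRight R (R ⧸ I) (R ⧸ I) A).injective
  rw [map_zero]
  refine linearIndependent_iff.1 hli _ ?_
  rw [linearCombination_finsuppScalarRight, hfg.apply_apply_eq_zero, TensorProduct.tmul_zero]

/-- A family that is a basis modulo a nilpotent ideal, with `Tor₁ = 0`, is a basis. -/
theorem basis_of_basis_mod {I : Ideal R} (hI : IsNilpotent I) {M : Type u} [AddCommGroup M] [Module R M]
    (htor : Function.Injective (I.subtype.lTensor M)) {A : Type u} (x : A → M)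
    (hli : LinearIndependent (R ⧸ I) (fun a => (1 : R ⧸ I) ⊗ₜ[R] x a))
    (hsp : Submodule.span (R ⧸ I) (Set.range fun a => (1 : R ⧸ I) ⊗ₜ[R] x a) = ⊤) :
    LinearIndependent R x ∧ Submodule.span R (Set.range x) = ⊤ := by
  classical
  have htop := span_eq_top_of_mod hI x hsp
  refine ⟨linearIndependent_iff.2 fun f hf => ?_, htop⟩
  have hg : Function.Surjective (Finsupp.linearCombination R x) := by
    rw [← LinearMap.range_eq_top, Finsupp.range_linearCombination, htop]
  have hex : Function.Exact (LinearMap.ker (Finsupp.linearCombination R x)).subtype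
      (Finsupp.linearCombination R x) := LinearMap.exact_subtype_ker_map _
  letI : AddCommGroup ↥(LinearMap.ker (Finsupp.linearCombination R x)) := Submodule.addCommGroup _
  have hK := eq_zero_of_exact hI htor x hli (K := ↥(LinearMap.ker (Finsupp.linearCombination R x)))
    (LinearMap.ker (Finsupp.linearCombination R x)).subtype Subtype.val_injective hex hg
  exact congrArg Subtype.val (hK ⟨f, LinearMap.mem_ker.2 hf⟩)

theorem basis_baseChange {M : Type u} [AddCommGroup M] [Module R M] (B : Type u) [CommRing B] [Algebra R B]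
    {A : Type u} (x : A → M) (hli : LinearIndependent R x) (hsp : Submodule.span R (Set.range x) = ⊤) :
    LinearIndependent B (fun a => (1 : B) ⊗ₜ[R] x a) ∧
      Submodule.span B (Set.range fun a => (1 : B) ⊗ₜ[R] x a) = ⊤ := by
  let b := Algebra.TensorProduct.basis B (Module.Basis.mk hli hsp.ge)
  have hb : (fun a => (1 : B) ⊗ₜ[R] x a) = b := funext fun a => by
    simp [b, Algebra.TensorProduct.basis_apply]
  rw [hb]
  exact ⟨b.linearIndependent, b.span_eq⟩

theorem flat_iff_isZero_tor (M : Type u) [AddCommGroup M] [Module R M] :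
    Module.Flat R M ↔ ∀ I : Ideal R, I.FG → Limits.IsZero
      (((CategoryTheory.Tor (ModuleCat.{u} R) 1).obj (ModuleCat.of R M)).obj (ModuleCat.of R (R ⧸ I))) := by
  rw [Module.Flat.iff_lTensor_injective]
  exact forall₂_congr fun I _ => ((isZero_tor_one_iff _ _).trans (torZero_quotient_iff (M := M) I)).symm

theorem isZero_tor_of_flat (M : Type u) [AddCommGroup M] [Module R M] [Module.Flat R M] (N : ModuleCat.{u} R)
    (i : ℕ) (hi : 0 < i) :
    Limits.IsZero (((CategoryTheory.Tor (ModuleCat.{u} R) i).obj (ModuleCat.of R M)).obj N) := by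
  obtain ⟨j, rfl⟩ : ∃ j, i = j + 1 := ⟨i - 1, (Nat.succ_pred_eq_of_pos hi).symm⟩
  let P : ProjectiveResolution N := CategoryTheory.projectiveResolution N
  let F := MonoidalCategory.tensorLeft (ModuleCat.of R M)
  have e : ((CategoryTheory.Tor (ModuleCat.{u} R) (j + 1)).obj (ModuleCat.of R M)).obj N ≅ _ :=
    P.isoLeftDerivedObj F (j + 1)
  rw [e.isZero_iff]
  show Limits.IsZero (((F.mapHomologicalComplex _).obj P.complex).homology (j + 1))
  rw [← HomologicalComplex.exactAt_iff_isZero_homology,
    HomologicalComplex.exactAt_iff' _ (j + 2) (j + 1) j (by simp) (by simp),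
    ShortComplex.ShortExact.moduleCat_exact_iff_function_exact]
  exact Module.Flat.lTensor_exact M ((ShortComplex.ShortExact.moduleCat_exact_iff_function_exact _).1
    ((HomologicalComplex.exactAt_iff' _ (j + 2) (j + 1) j (by simp) (by simp)).1 (P.complex_exactAt_succ j)))

theorem isZero_tor_of_finiteLength [IsLocalRing R] (M : Type u) [AddCommGroup M] [Module R M]
    (h : TorZero R M (IsLocalRing.ResidueField R)) (N : Type u) [AddCommGroup N] [Module R N]
    (hN : IsFiniteLength R N) : TorZero R M N := by
  induction hN with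
  | of_subsingleton => exact TorZero.of_subsingleton
  | @of_simple_quotient N _ _ N' _ _ ih =>
    refine TorZero.of_extension ih ?_ (f := N'.subtype) Subtype.val_injective
      (LinearMap.exact_subtype_mkQ N') (Submodule.mkQ_surjective _)
    obtain ⟨m, hm, ⟨e⟩⟩ := isSimpleModule_iff_quot_maximal.1 (inferInstance : IsSimpleModule R (N ⧸ N'))
    rw [IsLocalRing.eq_maximalIdeal hm] at e
    exact h.of_linearEquiv e.symm

end Groth.Agent.CAlgFlatTor
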