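import Mathlib
import Groth.Agent.CAlgMisc.FreeResolution

/-!
Tor of finite modules over a Noetherian ring is finite.
-/

namespace Groth.Agent.CAlgFlatTor

universe u

open scoped TensorProduct
open CategoryTheory MonoidalCategory

theorem finite_tor {R : Type u} [CommRing R] [IsNoetherianRing R] (M N : Type u) [AddCommGroup M] [Module R M]
    [AddCommGroup N] [Module R N] [Module.Finite R M] [Module.Finite R N] (p : ℕ) :
    Module.Finite R (((CategoryTheory.Tor (ModuleCat.{u} R) p).obj (ModuleCat.of R M)).obj (ModuleCat.of R N)) := by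
  obtain ⟨P, hP⟩ := CAlgMisc.exists_finite_free_resolution (ModuleCat.of R N)
  let F := MonoidalCategory.tensorLeft (ModuleCat.of R M)
  have e : ((CategoryTheory.Tor (ModuleCat.{u} R) p).obj (ModuleCat.of R M)).obj (ModuleCat.of R N) ≅ _ :=
    P.isoLeftDerivedObj F p
  let S := ((F.mapHomologicalComplex (ComplexShape.down ℕ)).obj P.complex).sc p
  haveI : Module.Finite R S.X₂ := by
    haveI := (hP p).1
    exact (inferInstance : Module.Finite R (M ⊗[R] (P.complex.X p)))
  have e' : ((CategoryTheory.Tor (ModuleCat.{u} R) p).obj (ModuleCat.of R M)).obj (ModuleCat.of R N) ≅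
      S.moduleCatLeftHomologyData.H := e ≪≫ S.moduleCatLeftHomologyData.homologyIso
  haveI : Module.Finite R S.moduleCatLeftHomologyData.H :=
    (inferInstance : Module.Finite R (LinearMap.ker S.g.hom ⧸ LinearMap.range S.moduleCatToCycles))
  exact Module.Finite.equiv e'.symm.toLinearEquiv

end Groth.Agent.CAlgFlatTor
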